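import Cfsg.Agent.Lib.Blocks.Exists
import Cfsg.Agent.Lib.Blocks.Principal
import Cfsg.Agent.Lib.Characters.Burnside
import Cfsg.Agent.Lib.Characters.Degree
import Cfsg.Agent.Lib.Solv.MinNormal

/-!
# Kazarin: an element with prime power class size generates a solvable normal subgroup
-/

set_option autoImplicit false
set_option linter.style.haveILetI false
set_option linter.unusedSectionVars false

namespace Cfsg.Lib.Kazarin

open Subgroup Cfsg.Lib.Characters Cfsg.Lib.Solv Cfsg.Lib.Blocks
open scoped Pointwise commutatorElement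

universe u

variable {G : Type u} [Group G]

theorem card_isConj_eq_index [Finite G] (g : G) :
    Nat.card {x : G // IsConj g x} = (centralizer ({g} : Set G)).index :=
  card_conj_eq_index g

/-- A subgroup of prime power index is supplemented by each Sylow subgroup for that prime. -/
theorem exists_mul_of_index_eq [Finite G] {p k : ℕ} [Fact p.Prime] (C : Subgroup G)
    (hC : C.index = p ^ k) (P : Sylow p G) (g : G) :
    ∃ u ∈ (P : Subgroup G), u⁻¹ * g ∈ C := by
  have h1 : C.relIndex P * Nat.card ↥(C ⊓ (P : Subgroup G)) = Nat.card (P : Subgroup G) := by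
    rw [← inf_relIndex_right C P, mul_comm, ← relIndex_bot_left, ← relIndex_bot_left,
      relIndex_mul_relIndex _ _ _ bot_le inf_le_right]
  obtain ⟨a, ha⟩ := IsPGroup.iff_card.mp (P.isPGroup'.to_le (inf_le_right (a := C)))
  have h2 : p ^ (k + a) ∣ Nat.card G := by
    rw [← C.index_mul_card, hC, pow_add, ← ha]
    exact mul_dvd_mul_left _ (card_dvd_of_le inf_le_left)
  have h3 : p ^ (k + a) ∣ Nat.card (P : Subgroup G) := by
    rw [P.card_eq_multiplicity]
    exact pow_dvd_pow p ((Nat.Prime.pow_dvd_iff_le_factorization Fact.out Nat.card_pos.ne').mp h2)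
  rw [← h1, pow_add, ← ha] at h3
  have h4 : p ^ k ∣ C.relIndex P := Nat.dvd_of_mul_dvd_mul_right Nat.card_pos h3
  have hrel : C.relIndex P = C.index := by
    refine le_antisymm ?_ (hC ▸ Nat.le_of_dvd (Nat.pos_of_ne_zero ?_) h4)
    · exact (relIndex_le_of_le_right (H := C) (K := (P : Subgroup G)) (L := ⊤) le_top
      (by rw [relIndex_top_right]; exact index_ne_zero_of_finite)).trans_eq (relIndex_top_right C)
    · exact index_ne_zero_of_finite
  have horb : MulAction.orbit (P : Subgroup G) ((1 : G) : G ⧸ C) = Set.univ := by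
    refine Set.eq_of_subset_of_ncard_le (Set.subset_univ _) (le_of_eq ?_)
    have hst : MulAction.stabilizer (P : Subgroup G) ((1 : G) : G ⧸ C) = C.subgroupOf P := by
      ext u
      rw [MulAction.mem_stabilizer_iff, mem_subgroupOf]
      show (((u : G) * 1 : G) : G ⧸ C) = ((1 : G) : G ⧸ C) ↔ _
      rw [mul_one, QuotientGroup.eq, mul_one, inv_mem_iff]
    rw [← MulAction.index_stabilizer, hst, Set.ncard_univ]
    exact hrel.symm
  have hg : (g : G ⧸ C) ∈ MulAction.orbit (P : Subgroup G) ((1 : G) : G ⧸ C) := by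
    rw [horb]; trivial
  obtain ⟨u, hu⟩ := hg
  refine ⟨u, u.2, ?_⟩
  have hu' : (((u : G) * 1 : G) : G ⧸ C) = (g : G ⧸ C) := hu
  rwa [mul_one, QuotientGroup.eq] at hu'

/-- If a Sylow `p`-subgroup is invariant under `y` and the class of `y` has `p`-power size then
the normal closure of `y` is solvable. -/
theorem solvable_normalClosure_of_invariant [Finite G] {p k : ℕ} [Fact p.Prime] {y : G}
    (hC : (centralizer ({y} : Set G)).index = p ^ k) (P : Sylow p G)
    (hy : y ∈ normalizer ((P : Subgroup G) : Set G)) :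
    Group.IsSolvable (normalClosure ({y} : Set G)) := by
  have hS : Group.IsSolvable ↥((P : Subgroup G) ⊔ zpowers y) := by
    set S := (P : Subgroup G) ⊔ zpowers y
    have hSN : S ≤ normalizer ((P : Subgroup G) : Set G) :=
      sup_le le_normalizer (zpowers_le.mpr hy)
    haveI : ((P : Subgroup G).subgroupOf S).Normal :=
      (normal_subgroupOf_iff_le_normalizer le_sup_left).mpr hSN
    have h1 := solvable_sup ((zpowers y).subgroupOf S) ((P : Subgroup G).subgroupOf S)
      (Group.isSolvable_of_isSolvable_injective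
        (f := (subgroupOfEquivOfLe (le_sup_right : zpowers y ≤ S)).toMonoidHom)
        (MulEquiv.injective _))
      (by
        haveI : Group.IsNilpotent ((P : Subgroup G).subgroupOf S) :=
          (P.isPGroup'.comap_subtype (K := S)).isNilpotent
        infer_instance)
    rw [← subgroupOf_sup le_sup_right le_sup_left, subgroupOf_eq_top.mpr (sup_comm _ _).le] at h1
    exact Group.isSolvable_of_surjective (f := (⊤ : Subgroup S).subtype)
      fun g => ⟨⟨g, mem_top g⟩, rfl⟩
  refine solvable_of_le ((closure_le _).mpr ?_) hS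
  intro c hc
  obtain ⟨a, ha, hac⟩ := Group.mem_conjugatesOfSet_iff.mp hc
  rw [Set.mem_singleton_iff.mp ha, isConj_iff] at hac
  obtain ⟨g, rfl⟩ := hac
  obtain ⟨u, hu, hug⟩ := exists_mul_of_index_eq _ hC P g
  have hcomm : u⁻¹ * g * y = y * (u⁻¹ * g) := mem_centralizer_singleton_iff.mp hug
  have : g * y * g⁻¹ = u * y * u⁻¹ := by
    calc g * y * g⁻¹ = u * (u⁻¹ * g * y) * g⁻¹ := by group
      _ = u * y * u⁻¹ := by rw [hcomm]; group
  rw [this]
  have hu' := mem_sup_left (T := zpowers y) hu
  exact mul_mem (mul_mem hu' (mem_sup_right (mem_zpowers y))) (inv_mem hu')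

/-- An irreducible character whose kernel contains the commutator subgroup is linear. -/
theorem degree_one_of_commutator_le [Finite G] {χ : G → ℂ} (h : IsIrrCharacter G χ)
    (hc : _root_.commutator G ≤ charKer h.isCharacter) : χ 1 = 1 := by
  haveI : (charKer h.isCharacter).Normal := charKer_normal _
  obtain ⟨ψ, -, hirr, hψ⟩ := exists_of_quotient h.isCharacter
    (fun k (hk : k ∈ charKer h.isCharacter) => (mem_charKer _).mp hk)
  haveI : IsMulCommutative (G ⧸ charKer h.isCharacter) := ⟨⟨fun a b => by
    induction a using QuotientGroup.induction_on with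
    | _ a =>
    induction b using QuotientGroup.induction_on with
    | _ b =>
      rw [← QuotientGroup.mk_mul, ← QuotientGroup.mk_mul, QuotientGroup.eq]
      refine hc ?_
      rw [_root_.commutator_def]
      have := commutator_mem_commutator (mem_top b⁻¹) (mem_top a⁻¹)
      simpa [commutatorElement_def, mul_assoc] using this⟩⟩
  rw [← hψ 1, QuotientGroup.mk_one]
  exact degree_one_of_isMulCommutative (hirr h)

/-- The block-theoretic heart of the theorem. -/
theorem not_dvd_card_monolith [Fintype G] {p q k : ℕ} [Fact p.Prime] [Fact q.Prime] (hpq : q ≠ p)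
    {y : G} (hy : orderOf y = q) (hC : (centralizer ({y} : Set G)).index = p ^ k)
    {N : Subgroup G} [N.Normal] (hNG : N ⊔ zpowers y = ⊤) (hN : N ≤ _root_.commutator G)
    (hmono : ∀ M : Subgroup G, M.Normal → M ≠ ⊥ → N ≤ M)
    (hcen : center G = ⊥) : ¬ q ∣ Nat.card N := by
  classical
  intro hdvd
  have hp : p.Prime := Fact.out
  have hq : q.Prime := Fact.out
  obtain ⟨M, hM⟩ := exists_isPModular q
  haveI : M.IsPrime := hM.2.1.isPrime
  -- powers
  have hpowN : ∀ g : G, g ^ q ∈ N := by
    intro g
    have hg : g ∈ N ⊔ zpowers y := hNG ▸ mem_top g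
    obtain ⟨n, hn, z, hz, rfl⟩ := mem_sup_of_normal_left.mp hg
    obtain ⟨i, rfl⟩ := mem_zpowers_iff.mp hz
    rw [← QuotientGroup.eq_one_iff, QuotientGroup.mk_pow, QuotientGroup.mk_mul,
      (QuotientGroup.eq_one_iff n).mpr hn, one_mul, ← QuotientGroup.mk_pow, ← zpow_natCast,
      ← zpow_mul, mul_comm, zpow_mul, zpow_natCast, ← hy, pow_orderOf_eq_one, one_zpow,
      QuotientGroup.mk_one]
  have hkerN : ∀ lam : G →* ℂˣ, ∀ x ∈ N, lam x = 1 := fun lam x hx =>
    MonoidHom.mem_ker.mp (Abelianization.commutator_subset_ker lam (hN hx))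
  have hlamq : ∀ (lam : G →* ℂˣ) (g : G), lam g ^ q = 1 := fun lam g => by
    rw [← map_pow]; exact hkerN lam _ (hpowN g)
  set B := Cfsg.principalBlock M G with hBdef
  have hB : Cfsg.IsPBlock M B := isPBlock_principal
  have hidx : ∀ g : G, ((centralizer ({g} : Set G)).index : ℂ) ∈ locRing M := fun g =>
    natCast_mem _ _
  have hone : ∀ g : G, Cfsg.centralChar (fun _ : G => (1 : ℂ)) g =
      ((centralizer ({g} : Set G)).index : ℂ) := fun g => by simp [Cfsg.centralChar]
  -- linear characters lie in the principal block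
  have hlin : ∀ χ : Cfsg.IrrCharacter G, (χ : G → ℂ) 1 = 1 → χ ∈ B := by
    intro χ h1 g
    obtain ⟨lam, hlam⟩ := exists_hom_of_degree_one χ.2.isCharacter h1
    rw [hone, memLocalIdeal_sub_iff (hidx g) (centralChar_mem_locRing M χ g), Cfsg.centralChar, h1,
      div_one, red_mul (hidx g) (char_mem_locRing M χ g), hlam,
      red_pPow_root hM (x := ((lam g : ℂˣ) : ℂ)) (k := 1) ?_, mul_one]
    rw [pow_one, ← Units.val_pow_eq_pow_val, hlamq, Units.val_one]
  -- the other members have degree divisible by `p`
  have hnon : ∀ χ ∈ B, (χ : G → ℂ) 1 ≠ 1 → ∀ d : ℕ, (χ : G → ℂ) 1 = d → p ∣ d := by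
    intro χ hχ h1 d hd
    by_contra hpd
    have hcop : Nat.Coprime d (Nat.card {x : G // IsConj y x}) := by
      rw [card_isConj_eq_index, hC]
      exact (Nat.Coprime.pow_left k ((Nat.Prime.coprime_iff_not_dvd hp).mpr hpd)).symm
    rcases zero_or_norm_of_coprime χ.2 y hd hcop with h | h
    · have h2 := hχ y
      rw [hone, memLocalIdeal_sub_iff (hidx y) (centralChar_mem_locRing M χ y), Cfsg.centralChar, h,
        mul_zero, zero_div, red_zero, red_natCast, natCast_resF_eq_zero hM, hC] at h2
      exact hpq ((Nat.prime_dvd_prime_iff_eq hq hp).mp (hq.dvd_of_dvd_pow h2))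
    · have hker : charKer χ.2.isCharacter = ⊥ := by
        by_contra hne
        refine h1 (degree_one_of_commutator_le χ.2 ?_)
        haveI := charKer_normal χ.2.isCharacter
        have hNK := hmono _ inferInstance hne
        have hab : ∀ a b : G ⧸ charKer χ.2.isCharacter, a * b = b * a := by
          have hgen : ∀ g : G, ∃ i : ℤ,
              (g : G ⧸ charKer χ.2.isCharacter) = (y : G ⧸ charKer χ.2.isCharacter) ^ i := by
            intro g
            have hg : g ∈ N ⊔ zpowers y := hNG ▸ mem_top g
            obtain ⟨n, hn, z, hz, rfl⟩ := mem_sup_of_normal_left.mp hg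
            obtain ⟨i, rfl⟩ := mem_zpowers_iff.mp hz
            refine ⟨i, ?_⟩
            rw [QuotientGroup.mk_mul, (QuotientGroup.eq_one_iff n).mpr (hNK hn), one_mul,
              QuotientGroup.mk_zpow]
          intro a b
          induction a using QuotientGroup.induction_on with
          | _ a =>
          induction b using QuotientGroup.induction_on with
          | _ b =>
            obtain ⟨i, hi⟩ := hgen a
            obtain ⟨j, hj⟩ := hgen b
            rw [hi, hj, ← zpow_add, ← zpow_add, add_comm]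
        rw [_root_.commutator_def, commutator_le]
        intro a _ b _
        rw [← QuotientGroup.eq_one_iff, ← QuotientGroup.mk'_apply, map_commutatorElement,
          commutatorElement_eq_one_iff_mul_comm]
        exact hab _ _
      have := mem_center_of_norm_eq χ.2 (fun x hx => by
        have hx' : x ∈ charKer χ.2.isCharacter := (mem_charKer _).mpr hx
        rwa [hker, mem_bot] at hx') hd h
      rw [hcen, mem_bot] at this
      rw [this, orderOf_one] at hy
      exact hq.ne_one hy.symm
  -- weak block orthogonality at an element of order `q` in `N`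
  obtain ⟨⟨s, hsN⟩, hs⟩ := exists_prime_orderOf_dvd_card' q hdvd
  rw [orderOf_mk] at hs
  have horth := kerB_eq_zero_of_regular hM hB (g := (1 : G)) (h := s)
    (by rw [orderOf_one]; exact hq.not_dvd_one) (hs ▸ dvd_rfl)
  have hterm : ∀ χ : Cfsg.IrrCharacter G, ∃ t : ℂ, IsIntegral ℤ t ∧
      (if χ ∈ B then (χ : G → ℂ) 1 * (χ : G → ℂ) s⁻¹ else 0) =
        (if (χ : G → ℂ) 1 = 1 then 1 else 0) + p * t := by
    intro χ
    by_cases h1 : (χ : G → ℂ) 1 = 1
    · refine ⟨0, isIntegral_zero, ?_⟩
      obtain ⟨lam, hlam⟩ := exists_hom_of_degree_one χ.2.isCharacter h1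
      rw [if_pos (hlin χ h1), if_pos h1, h1, hlam]
      simp [hkerN lam s⁻¹ (inv_mem hsN)]
    · rw [if_neg h1]
      by_cases hχ : χ ∈ B
      · obtain ⟨d, hd⟩ := exists_degree χ.2.isCharacter
        obtain ⟨e, rfl⟩ := hnon χ hχ h1 d hd
        refine ⟨e * (χ : G → ℂ) s⁻¹,
          (isIntegral_algebraMap (R := ℤ) (x := (e : ℤ))).mul (char_isIntegral χ.2.isCharacter _)
            |> (by simpa using ·), ?_⟩
        rw [if_pos hχ, hd]; push_cast; ring
      · exact ⟨0, isIntegral_zero, by simp [hχ]⟩
  choose t ht hteq using hterm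
  rw [kerB, Finset.sum_congr rfl fun χ _ => hteq χ, Finset.sum_add_distrib, Finset.sum_boole,
    ← Finset.mul_sum] at horth
  have hL : ((Finset.univ.filter fun χ : Cfsg.IrrCharacter G => (χ : G → ℂ) 1 = 1).card) =
      Nat.card (G →* ℂˣ) := by
    rw [card_hom_units, ← card_linear_irr, Nat.card_eq_fintype_card, Fintype.card_subtype]
  rw [hL] at horth
  have hint : IsIntegral ℤ ((Nat.card (G →* ℂˣ) : ℂ) / (p : ℂ)) := by
    have hp0 : (p : ℂ) ≠ 0 := Nat.cast_ne_zero.mpr hp.ne_zero
    have : (Nat.card (G →* ℂˣ) : ℂ) / (p : ℂ) = - ∑ χ, t χ := by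
      rw [div_eq_iff hp0]; linear_combination horth
    rw [this]
    exact (IsIntegral.sum _ fun χ _ => ht χ).neg
  have hpL := dvd_of_isIntegral_div hp.ne_zero hint
  haveI : Finite (G →* ℂˣ) := Nat.finite_of_card_ne_zero (by
    rw [card_hom_units]; exact index_ne_zero_of_finite)
  have hexp : IsPGroup q (G →* ℂˣ) := fun lam => ⟨1, by
    ext g; rw [pow_one]; simpa using congrArg Units.val (hlamq lam g)⟩
  obtain ⟨j, hj⟩ := IsPGroup.iff_card.mp hexp
  rw [hj] at hpL
  exact hpq ((Nat.prime_dvd_prime_iff_eq hp hq).mp (hp.dvd_of_dvd_pow hpL)).symm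

/-- The relative index in `H ⊔ N` when `N` is normal. -/
theorem relIndex_dvd_index_of_sup [Finite G] (C : Subgroup G) (N : Subgroup G) [N.Normal] {y : G}
    (hy : y ∈ C) : C.relIndex (N ⊔ zpowers y) ∣ C.index := by
  have hkey : ∀ D : Subgroup G, D.relIndex (D ⊔ N) = D.relIndex N := by
    intro D
    have a : Nat.card ↥(D ⊓ N) * D.relIndex N = Nat.card N := by
      rw [← inf_relIndex_right D N, ← relIndex_bot_left, ← relIndex_bot_left,
        relIndex_mul_relIndex _ _ _ bot_le inf_le_right]
    have a' : Nat.card ↥(D ⊓ N) * N.relIndex D = Nat.card D := by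
      rw [← inf_relIndex_left D N, ← relIndex_bot_left, ← relIndex_bot_left,
        relIndex_mul_relIndex _ _ _ bot_le inf_le_left]
    have b : Nat.card N * N.relIndex D = Nat.card ↥(D ⊔ N) := by
      rw [← relIndex_sup_right (H := D) (K := N), ← relIndex_bot_left, ← relIndex_bot_left,
        relIndex_mul_relIndex _ _ _ bot_le le_sup_right]
    have c : Nat.card D * D.relIndex (D ⊔ N) = Nat.card ↥(D ⊔ N) := by
      rw [← relIndex_bot_left, ← relIndex_bot_left,
        relIndex_mul_relIndex _ _ _ bot_le le_sup_left]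
    refine Nat.eq_of_mul_eq_mul_left (Nat.card_pos (α := D)) (c.trans ?_)
    rw [← b, ← a, ← a']; ring
  have h1 : (C ⊓ (N ⊔ zpowers y)) ⊔ N = N ⊔ zpowers y :=
    le_antisymm (sup_le inf_le_right le_sup_left) (sup_le le_sup_right
      ((le_inf (zpowers_le.mpr hy) le_sup_right).trans le_sup_left))
  have h2 : C.relIndex (N ⊔ zpowers y) = C.relIndex N := by
    rw [← inf_relIndex_right C]
    conv_lhs => arg 2; rw [← h1]
    rw [hkey, ← inf_relIndex_right (C ⊓ (N ⊔ zpowers y)) N, inf_assoc,
      inf_eq_right.mpr (le_sup_left : N ≤ N ⊔ zpowers y), inf_relIndex_right]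
  rw [h2, ← hkey C]
  exact ⟨_, (relIndex_mul_index le_sup_left).symm⟩

/-- Kazarin's theorem. -/
theorem solvable_normalClosure_of_index_eq {p : ℕ} [Fact p.Prime] :
    ∀ (n : ℕ) (G : Type u) [Group G] [Finite G], Nat.card G = n → ∀ (x : G) (k : ℕ),
      (centralizer ({x} : Set G)).index = p ^ k →
        Group.IsSolvable (normalClosure ({x} : Set G)) := by
  have hp : p.Prime := Fact.out
  intro n
  induction n using Nat.strong_induction_on with
  | _ n ih =>
  intro G _ _ hn x k hx
  set K := normalClosure ({x} : Set G) with hK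
  have hquot : ∀ R : Subgroup G, ∀ [R.Normal], R ≠ ⊥ →
      Group.IsSolvable (K.map (QuotientGroup.mk' R)) := by
    intro R _ hR
    set f := QuotientGroup.mk' R with hf
    have hlt : Nat.card (G ⧸ R) < n := by
      rw [← hn, card_eq_card_quotient_mul_card_subgroup R]
      exact lt_mul_of_one_lt_right Nat.card_pos ((one_lt_card_iff_ne_bot R).mpr hR)
    have hle : (centralizer ({x} : Set G)).map f ≤ centralizer ({f x} : Set (G ⧸ R)) := by
      rintro _ ⟨c, hc, rfl⟩
      rw [mem_centralizer_singleton_iff, ← map_mul, ← map_mul,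
        mem_centralizer_singleton_iff.mp hc]
    obtain ⟨j, -, hj⟩ := (Nat.dvd_prime_pow hp).mp (hx ▸ (index_dvd_of_le hle).trans
      (index_map_dvd _ (QuotientGroup.mk'_surjective R)))
    have := ih _ hlt (G ⧸ R) rfl (f x) j hj
    rw [hK, map_normalClosure _ _ (QuotientGroup.mk'_surjective R), Set.image_singleton]
    exact this
  have hext : ∀ R : Subgroup G, ∀ [R.Normal], Group.IsSolvable (K.map (QuotientGroup.mk' R)) →
      Group.IsSolvable ↥(K ⊓ R) → Group.IsSolvable K := by
    intro R _ h1 h2
    refine Group.isSolvable_of_ker_le_range (inclusion (inf_le_left : K ⊓ R ≤ K))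
      ((QuotientGroup.mk' R).subgroupMap K) ?_
    intro a ha
    have ha' : QuotientGroup.mk' R (a : G) = 1 := congrArg Subtype.val ha
    exact ⟨⟨a, a.2, (QuotientGroup.eq_one_iff _).mp ha'⟩, rfl⟩
  by_cases hR : ∀ R : Subgroup G, R.Normal → Group.IsSolvable R → R = ⊥
  swap
  · push Not at hR
    obtain ⟨R, hRn, hRs, hR0⟩ := hR
    exact hext R (hquot R hR0) (solvable_of_le inf_le_right hRs)
  by_contra hns
  have htriv : ∀ z : G, Group.IsSolvable (normalClosure ({z} : Set G)) → z = 1 := by
    intro z hz
    have := hR _ inferInstance hz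
    exact mem_bot.mp (this ▸ subset_normalClosure (Set.mem_singleton z))
  have hx1 : x ≠ 1 := by
    rintro rfl
    refine hns ?_
    rw [hK, show normalClosure ({1} : Set G) = ⊥ from
      le_bot_iff.mp (normalClosure_le_normal (by simp))]
    infer_instance
  have htop : (⊤ : Subgroup G) ≠ ⊥ := fun h => hx1 (mem_bot.mp (h ▸ mem_top x))
  obtain ⟨N, hNn, -, hN0, hNmin⟩ := exists_minimal_normal_le htop
  haveI := hNn
  have hmono : ∀ M : Subgroup G, M.Normal → M ≠ ⊥ → N ≤ M := by
    intro M hMn hM0
    by_contra hle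
    haveI := hMn
    have hinf : N ⊓ M = ⊥ := (hNmin _ inferInstance inf_le_left).resolve_right
      fun h => hle (inf_eq_left.mp h)
    refine hns (hext N (hquot N hN0) ?_)
    have hinj : Function.Injective
        ((QuotientGroup.mk' M).comp (K ⊓ N).subtype) := by
      rw [← MonoidHom.ker_eq_bot_iff, eq_bot_iff]
      intro a ha
      have haM : (a : G) ∈ M := (QuotientGroup.eq_one_iff _).mp ha
      have : (a : G) ∈ N ⊓ M := ⟨a.2.2, haM⟩
      rw [hinf, mem_bot] at this
      exact mem_bot.mpr (Subtype.ext this)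
    have hle' : ∀ a : ↥(K ⊓ N), QuotientGroup.mk' M (a : G) ∈ K.map (QuotientGroup.mk' M) :=
      fun a => mem_map_of_mem _ a.2.1
    haveI := hquot M hM0
    exact Group.isSolvable_of_isSolvable_injective
      (f := ((QuotientGroup.mk' M).comp (K ⊓ N).subtype).codRestrict _ hle')
      (fun a b hab => hinj (congrArg Subtype.val hab))
  -- an element of prime order with prime power class size
  obtain ⟨q, hq, hqd⟩ := Nat.exists_prime_and_dvd (mt orderOf_eq_one_iff.mp hx1)
  haveI := Fact.mk hq
  set y := x ^ (orderOf x / q) with hy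
  have hyq : orderOf y = q := orderOf_pow_orderOf_div (orderOf_pos x).ne' hqd
  have hy1 : y ≠ 1 := fun h => by rw [h, orderOf_one] at hyq; exact hq.ne_one hyq.symm
  obtain ⟨j, -, hj⟩ := (Nat.dvd_prime_pow hp).mp (hx ▸ index_dvd_of_le (H := centralizer ({x} : Set G))
    (K := centralizer ({y} : Set G)) fun c hc => by
      rw [mem_centralizer_singleton_iff] at hc ⊢
      exact (Commute.pow_right (hc : Commute c x) _).eq)
  have hqp : q ≠ p := by
    intro h
    have hz : IsPGroup p (zpowers y) := IsPGroup.of_card (n := 1) (by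
      rw [Nat.card_zpowers, hyq, pow_one, h])
    obtain ⟨P, hP⟩ := hz.exists_le_sylow
    exact hy1 (htriv y (solvable_normalClosure_of_invariant hj P
      (le_normalizer (hP (mem_zpowers y)))))
  have hNns : ¬ Group.IsSolvable N := fun h => hN0 (hR N hNn h)
  have hcentN : centralizer (N : Set G) = ⊥ := by
    by_contra h
    have hle := hmono _ inferInstance h
    refine hNns (Group.isSolvable_of_comm fun a b => Subtype.ext ?_)
    exact (mem_centralizer_iff.mp (hle b.2) a a.2)
  -- the group is generated by `N` and `y`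
  have hNG : N ⊔ zpowers y = ⊤ := by
    by_contra hne
    set H := N ⊔ zpowers y with hH
    have hyH : y ∈ H := mem_sup_right (mem_zpowers y)
    have hlt : Nat.card H < n := hn ▸ lt_of_le_of_ne (card_le_card_group H)
      fun h => hne ((card_eq_iff_eq_top H).mp h)
    have hcent : centralizer ({(⟨y, hyH⟩ : H)} : Set H) =
        (centralizer ({y} : Set G)).subgroupOf H := by
      ext c
      simp [mem_centralizer_singleton_iff, mem_subgroupOf, Subtype.ext_iff]
    have hdv : (centralizer ({(⟨y, hyH⟩ : H)} : Set H)).index ∣ p ^ j := by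
      rw [hcent, ← hj]
      exact relIndex_dvd_index_of_sup _ N (mem_centralizer_singleton_iff.mpr rfl)
    obtain ⟨i, -, hi⟩ := (Nat.dvd_prime_pow hp).mp hdv
    have hsol := ih _ hlt H rfl ⟨y, hyH⟩ i hi
    set KH := normalClosure ({(⟨y, hyH⟩ : H)} : Set H) with hKH
    set D := KH.map H.subtype ⊓ N with hD
    have hDs : Group.IsSolvable D := solvable_of_le inf_le_left (solvable_map _ hsol)
    have hNH : N ≤ H := le_sup_left
    have hDn : ∀ a ∈ N, ∀ d ∈ D, a * d * a⁻¹ ∈ D := by
      rintro a ha d ⟨⟨w, hw, rfl⟩, hwN⟩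
      refine ⟨⟨⟨a, hNH ha⟩ * w * ⟨a, hNH ha⟩⁻¹, (inferInstance : KH.Normal).conj_mem w hw _, rfl⟩, ?_⟩
      exact hNn.conj_mem _ hwN _
    have hD0 : D = ⊥ := normal_in_minimal_solvable hN0 hR hDn inf_le_right hDs
    have hyc : y ∈ centralizer (N : Set G) := by
      rw [mem_centralizer_iff]
      intro a ha
      have h1 : a * y * a⁻¹ * y⁻¹ ∈ D := by
        refine ⟨⟨⟨a, hNH ha⟩ * ⟨y, hyH⟩ * ⟨a, hNH ha⟩⁻¹ * ⟨y, hyH⟩⁻¹, ?_, rfl⟩, ?_⟩
        · exact mul_mem ((inferInstance : KH.Normal).conj_mem _
            (subset_normalClosure (Set.mem_singleton _)) _)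
            (inv_mem (subset_normalClosure (Set.mem_singleton _)))
        · rw [show a * y * a⁻¹ * y⁻¹ = a * (y * a⁻¹ * y⁻¹) by group]
          exact mul_mem ha (hNn.conj_mem _ (inv_mem ha) _)
      rw [hD0, mem_bot, mul_inv_eq_one, mul_inv_eq_iff_eq_mul] at h1
      exact h1
    rw [hcentN, mem_bot] at hyc
    exact hy1 hyc
  have hNcomm : N ≤ _root_.commutator G := by
    refine hmono _ inferInstance fun h => ?_
    refine htop (hR ⊤ inferInstance (Group.isSolvable_of_comm fun a b => Subtype.ext ?_))
    have : ⁅(a : G), (b : G)⁆ ∈ _root_.commutator G := by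
      rw [_root_.commutator_def]; exact commutator_mem_commutator (mem_top _) (mem_top _)
    rw [h, mem_bot, commutatorElement_eq_one_iff_mul_comm] at this
    exact this
  have hcen : center G = ⊥ :=
    hR _ inferInstance (Group.isSolvable_of_comm fun a b =>
      Subtype.ext ((mem_center_iff.mp b.2) a))
  haveI := Fintype.ofFinite G
  have hqN := not_dvd_card_monolith hqp hyq hj hNG hNcomm hmono hcen
  -- an invariant Sylow subgroup
  obtain ⟨P⟩ : Nonempty (Sylow p N) := inferInstance
  set P0 := (P : Subgroup N).map N.subtype with hP0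
  have hfr : normalizer (P0 : Set G) ⊔ N = ⊤ := P.normalizer_sup_eq_top
  have hidx : Nat.card G = Nat.card N * q := by
    have hdisj : Disjoint N (zpowers y) := by
      rw [disjoint_iff, ← Subgroup.card_eq_one]
      refine Nat.eq_one_of_dvd_coprimes ((Nat.Prime.coprime_iff_not_dvd hq).mpr hqN).symm
        (card_dvd_of_le inf_le_left) ?_
      rw [← hyq, ← Nat.card_zpowers]
      exact card_dvd_of_le inf_le_right
    have hc := (isComplement'_of_disjoint_and_mul_eq_univ hdisj
      (by rw [← coe_top, ← hNG, Subgroup.normal_mul])).card_mul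
    rw [Nat.card_zpowers, hyq] at hc
    exact hc.symm
  have hqnorm : q ∣ Nat.card (normalizer (P0 : Set G)) := by
    have h1 := card_sup_dvd_mul (normalizer (P0 : Set G)) N
    rw [hfr, card_top, hidx] at h1
    exact ((Nat.Prime.dvd_mul hq).mp ((dvd_mul_left q _).trans h1)).resolve_right hqN
  obtain ⟨z, hz⟩ := exists_prime_orderOf_dvd_card' q hqnorm
  have hzq : orderOf (z : G) = q := by rw [orderOf_coe, hz]
  have hfac : (Nat.card G).factorization q = 1 := by
    rw [hidx, Nat.factorization_mul Nat.card_pos.ne' hq.ne_zero, Finsupp.add_apply,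
      Nat.factorization_eq_zero_of_not_dvd hqN, hq.factorization_self]
  let Sy : Sylow q G := Sylow.ofCard (zpowers y) (by rw [Nat.card_zpowers, hyq, hfac, pow_one])
  let Sz : Sylow q G := Sylow.ofCard (zpowers (z : G)) (by rw [Nat.card_zpowers, hzq, hfac, pow_one])
  obtain ⟨g, hg⟩ := MulAction.exists_smul_eq G Sz Sy
  have hPG : Nat.card P0 = p ^ (Nat.card G).factorization p := by
    rw [card_map_of_injective N.subtype_injective, Sylow.card_eq_multiplicity, hidx,
      Nat.factorization_mul Nat.card_pos.ne' hq.ne_zero, Finsupp.add_apply,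
      hq.factorization, Finsupp.single_eq_of_ne (Ne.symm hqp), add_zero]
  let Q : Sylow p G := Sylow.ofCard P0 hPG
  refine hy1 (htriv y (solvable_normalClosure_of_invariant hj (g • Q) ?_))
  have hyz : y ∈ MulAut.conj g • zpowers (z : G) := by
    have : ((Sy : Sylow q G) : Subgroup G) = MulAut.conj g • ((Sz : Sylow q G) : Subgroup G) := by
      rw [← hg]; rfl
    rw [Sylow.coe_ofCard, Sylow.coe_ofCard] at this
    exact this ▸ mem_zpowers y
  have hzN : zpowers (z : G) ≤ normalizer ((Q : Subgroup G) : Set G) := by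
    rw [Sylow.coe_ofCard]; exact zpowers_le.mpr z.2
  obtain ⟨w, hw, hwy⟩ := hyz
  rw [← hwy, Sylow.coe_subgroup_smul]
  exact conj_mem_normalizer_smul g (hzN hw)
where
  normal_in_minimal_solvable {G : Type u} [Group G] [Finite G] {N D : Subgroup G} [N.Normal]
      (_hN0 : N ≠ ⊥) (hR : ∀ R : Subgroup G, R.Normal → Group.IsSolvable R → R = ⊥)
      (hDn : ∀ a ∈ N, ∀ d ∈ D, a * d * a⁻¹ ∈ D) (hDN : D ≤ N) (hDs : Group.IsSolvable D) :
      D = ⊥ := by
    classical
    -- the join of all conjugates of `D` is a solvable normal subgroup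
    haveI := Fintype.ofFinite G
    let J : Finset G → Subgroup G := fun s => s.sup fun g => D.map (MulAut.conj g).toMonoidHom
    have hnorm : ∀ g : G, ∀ a ∈ N, ∀ d ∈ D.map (MulAut.conj g).toMonoidHom,
        a * d * a⁻¹ ∈ D.map (MulAut.conj g).toMonoidHom := by
      rintro g a ha _ ⟨d, hd, rfl⟩
      refine ⟨(g⁻¹ * a * g) * d * (g⁻¹ * a * g)⁻¹, hDn _ ?_ _ hd, ?_⟩
      · simpa using (inferInstance : N.Normal).conj_mem a ha g⁻¹
      · simp [mul_assoc]
    have hJ : ∀ s : Finset G, Group.IsSolvable (J s) ∧ J s ≤ N ∧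
        N ≤ normalizer ((J s : Subgroup G) : Set G) := by
      intro s
      induction s using Finset.induction_on with
      | empty =>
        refine ⟨?_, bot_le, ?_⟩
        · show Group.IsSolvable (⊥ : Subgroup G); infer_instance
        · intro a _; rw [mem_normalizer_iff]; simp [J]
      | @insert g s hg ih =>
        set Dg := D.map (MulAut.conj g).toMonoidHom with hDg
        have hDgN : Dg ≤ N := by
          rintro _ ⟨d, hd, rfl⟩
          simpa using (inferInstance : N.Normal).conj_mem d (hDN hd) g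
        have hDgn : N ≤ normalizer ((Dg : Subgroup G) : Set G) :=
          le_normalizer_of_conj_mem (hnorm g)
        have hins : J (insert g s) = Dg ⊔ J s := by
          show (insert g s).sup _ = _
          rw [Finset.sup_insert]
        rw [hins]
        refine ⟨?_, sup_le hDgN ih.2.1, le_normalizer_sup hDgn ih.2.2⟩
        haveI : (Dg.subgroupOf N).Normal := (normal_subgroupOf_iff_le_normalizer hDgN).mpr hDgn
        have h1 := solvable_sup ((J s).subgroupOf N) (Dg.subgroupOf N)
          (haveI := ih.1; Group.isSolvable_of_isSolvable_injective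
            (f := (subgroupOfEquivOfLe ih.2.1).toMonoidHom) (MulEquiv.injective _))
          (haveI := solvable_map (MulAut.conj g).toMonoidHom hDs
           Group.isSolvable_of_isSolvable_injective
            (f := (subgroupOfEquivOfLe hDgN).toMonoidHom) (MulEquiv.injective _))
        rw [← subgroupOf_sup ih.2.1 hDgN] at h1
        rw [sup_comm]
        exact Group.isSolvable_of_isSolvable_injective
          (f := (subgroupOfEquivOfLe (sup_le ih.2.1 hDgN)).symm.toMonoidHom) (MulEquiv.injective _)
    have hn : (J Finset.univ).Normal := by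
      refine ⟨fun d hd h => ?_⟩
      have hle : J Finset.univ ≤ (J Finset.univ).comap (MulAut.conj h).toMonoidHom := by
        refine Finset.sup_le fun g _ => ?_
        rw [← map_le_iff_le_comap, map_map]
        have : (MulAut.conj h).toMonoidHom.comp (MulAut.conj g).toMonoidHom =
            (MulAut.conj (h * g)).toMonoidHom := by
          ext a; simp [mul_assoc]
        rw [this]
        exact Finset.le_sup (f := fun g => D.map (MulAut.conj g).toMonoidHom) (Finset.mem_univ _)
      simpa using hle hd
    have h0 := hR _ hn (hJ Finset.univ).1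
    refine le_bot_iff.mp (h0 ▸ ?_)
    refine le_trans ?_ (Finset.le_sup (f := fun g => D.map (MulAut.conj g).toMonoidHom)
      (Finset.mem_univ (1 : G)))
    intro d hd
    exact ⟨d, hd, by simp⟩
  le_normalizer_of_conj_mem {G : Type u} [Group G] {N D : Subgroup G}
      (h : ∀ a ∈ N, ∀ d ∈ D, a * d * a⁻¹ ∈ D) : N ≤ normalizer (D : Set G) := by
    intro a ha
    rw [mem_normalizer_iff]
    refine fun d => ⟨h a ha d, fun hd => ?_⟩
    have := h a⁻¹ (inv_mem ha) _ hd
    simpa [mul_assoc] using this
  le_normalizer_sup {G : Type u} [Group G] {N A B : Subgroup G}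
      (hA : N ≤ normalizer (A : Set G)) (hB : N ≤ normalizer (B : Set G)) :
      N ≤ normalizer ((A ⊔ B : Subgroup G) : Set G) := by
    refine le_normalizer_of_conj_mem fun a ha d hd => ?_
    have : A ⊔ B ≤ (A ⊔ B).comap (MulAut.conj a).toMonoidHom :=
      sup_le (fun d hd => mem_comap.mpr (mem_sup_left (by
        simpa using (mem_normalizer_iff.mp (hA ha) d).mp hd)))
        (fun d hd => mem_comap.mpr (mem_sup_right (by
        simpa using (mem_normalizer_iff.mp (hB ha) d).mp hd)))
    simpa using this hd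
  conj_mem_normalizer_smul {G : Type u} [Group G] {A : Subgroup G} (g : G) {w : G}
      (hw : w ∈ normalizer (A : Set G)) :
      MulAut.conj g • w ∈ normalizer ((MulAut.conj g • A : Subgroup G) : Set G) := by
    rw [mem_normalizer_iff]
    intro h
    have h1 := mem_normalizer_iff.mp hw ((MulAut.conj g)⁻¹ • h)
    rw [Subgroup.mem_pointwise_smul_iff_inv_smul_mem, Subgroup.mem_pointwise_smul_iff_inv_smul_mem,
      h1]
    simp [MulAut.smul_def, mul_assoc]

end Cfsg.Lib.Kazarin
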